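import Groth.Agent.DevissLib.ClosedImm
import Groth.Agent.CurvLib.Euler
import Mathlib.RingTheory.Artinian.Module
import Groth.Agent.SteinLib.Fibre
import Groth.Agent.CurvLib.StalkSum

/-!
# Global functions of reduced proper schemes count connected components
-/

set_option autoImplicit false
set_option linter.style.haveILetI false

universe u

open CategoryTheory AlgebraicGeometry TopologicalSpace Opposite

noncomputable section

namespace NormGenusLib

/-- Finite reduced algebras over algebraically closed fields have as many points as dimensions. -/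
theorem finrank_eq_card_spec {k R : Type u} [Field k] [IsAlgClosed k] [CommRing R] [Algebra k R] [Module.Finite k R]
    [_root_.IsReduced R] : Module.finrank k R = Nat.card (PrimeSpectrum R) := by
  haveI : IsArtinianRing R := IsArtinianRing.of_finite k R
  letI := Fintype.ofFinite (MaximalSpectrum R)
  let f : R →ₗ[k] (∀ m : MaximalSpectrum R, R ⧸ m.asIdeal) :=
    LinearMap.pi fun m => (Ideal.Quotient.mkₐ k m.asIdeal).toLinearMap
  have hf : Function.Bijective f := (IsArtinianRing.equivPi R).bijective
  have h1 : ∀ m : MaximalSpectrum R, Module.finrank k (R ⧸ m.asIdeal) = 1 := fun m => by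
    haveI := m.isMaximal
    letI := Ideal.Quotient.field m.asIdeal
    haveI : Algebra.IsIntegral k (R ⧸ m.asIdeal) := Algebra.IsIntegral.of_finite k _
    have hb : Function.Bijective (algebraMap k (R ⧸ m.asIdeal)) :=
      IsAlgClosed.algebraMap_bijective_of_isIntegral
    rw [← (LinearEquiv.ofBijective (Algebra.linearMap k (R ⧸ m.asIdeal)) hb).finrank_eq, Module.finrank_self]
  rw [(LinearEquiv.ofBijective f hf).finrank_eq, Module.finrank_pi_fintype,
    Nat.card_congr (IsArtinianRing.primeSpectrumEquivMaximalSpectrum (R := R)), Nat.card_eq_fintype_card]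
  simp [h1]


theorem natCard_clopens (α : Type u) [TopologicalSpace α] [NoetherianSpace α] :
    Nat.card (Clopens α) = 2 ^ Nat.card (_root_.ConnectedComponents α) := by
  classical
  haveI := SteinLib.finite_connectedComponents α
  letI := Fintype.ofFinite (_root_.ConnectedComponents α)
  let q : α → _root_.ConnectedComponents α := (↑)
  have hcl : ∀ S : Set (_root_.ConnectedComponents α), IsClosed (q ⁻¹' S) := fun S => by
    have h : q ⁻¹' S = ⋃ c ∈ S, q ⁻¹' {c} := by rw [← Set.preimage_iUnion₂, Set.biUnion_of_singleton]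
    rw [h]
    refine S.toFinite.isClosed_biUnion fun c _ => ?_
    obtain ⟨a, rfl⟩ := _root_.ConnectedComponents.surjective_coe c
    rw [connectedComponents_preimage_singleton]
    exact isClosed_connectedComponent
  let f : Set (_root_.ConnectedComponents α) → Clopens α := fun S =>
    ⟨q ⁻¹' S, hcl S, by rw [← isClosed_compl_iff, ← Set.preimage_compl]; exact hcl _⟩
  have hinj : Function.Injective f := fun S T h =>
    Set.preimage_injective.2 _root_.ConnectedComponents.surjective_coe (congrArg (fun V : Clopens α => (V : Set α)) h)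
  have hsurj : Function.Surjective f := fun V => by
    refine ⟨q '' V, Clopens.ext (Set.Subset.antisymm (fun a ha => ?_) (Set.subset_preimage_image _ _))⟩
    obtain ⟨b, hb, hba⟩ := ha
    exact V.isClopen.connectedComponent_subset hb (_root_.ConnectedComponents.coe_eq_coe'.1 hba.symm)
  rw [← Nat.card_eq_of_bijective f ⟨hinj, hsurj⟩, Nat.card_eq_fintype_card, Fintype.card_set,
    Nat.card_eq_fintype_card]

variable {X : Scheme.{u}}

theorem germ_idem {e : Γ(X, ⊤)} (he : IsIdempotentElem e) (x : X) :
    (x ∈ X.basicOpen e → X.presheaf.germ ⊤ x (Opens.mem_top x) e = 1) ∧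
      (x ∉ X.basicOpen e → X.presheaf.germ ⊤ x (Opens.mem_top x) e = 0) := by
  have h2 : X.presheaf.germ ⊤ x (Opens.mem_top x) e * X.presheaf.germ ⊤ x (Opens.mem_top x) e = X.presheaf.germ ⊤ x (Opens.mem_top x) e := by
    rw [← map_mul, he.eq]
  constructor
  · intro h
    exact (((X.mem_basicOpen e x (Opens.mem_top x)).1 h).mul_eq_left).1 h2
  · intro h
    have hn : ¬ IsUnit (X.presheaf.germ ⊤ x (Opens.mem_top x) e) := fun hu => h ((X.mem_basicOpen e x (Opens.mem_top x)).2 hu)
    have h1 : IsUnit (1 - X.presheaf.germ ⊤ x (Opens.mem_top x) e) :=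
      (IsLocalRing.isUnit_or_isUnit_of_add_one (add_sub_cancel _ _)).resolve_left hn
    exact h1.mul_right_eq_zero.1 (by rw [sub_mul, one_mul, h2, sub_self])

/-- Idempotent global functions are the open and closed subsets. -/
theorem natCard_idempotents (X : Scheme.{u}) :
    Nat.card {e : Γ(X, ⊤) // IsIdempotentElem e} = Nat.card (Clopens X) := by
  classical
  have hcl : ∀ e : {e : Γ(X, ⊤) // IsIdempotentElem e}, IsClopen (X.basicOpen e.1 : Set X) := fun e => by
    refine ⟨?_, (X.basicOpen e.1).isOpen⟩
    have h : (X.basicOpen e.1 : Set X)ᶜ = (X.basicOpen (1 - e.1) : Set X) := by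
      ext x
      simp only [Set.mem_compl_iff, SetLike.mem_coe, X.mem_basicOpen _ x (Opens.mem_top x),
        map_sub, map_one]
      constructor
      · intro h
        rw [(germ_idem e.2 x).2 fun hx => h ((X.mem_basicOpen _ x (Opens.mem_top x)).1 hx), sub_zero]
        exact isUnit_one
      · intro h hu
        rw [(germ_idem e.2 x).1 ((X.mem_basicOpen _ x (Opens.mem_top x)).2 hu), sub_self] at h
        exact not_isUnit_zero h
    rw [← isOpen_compl_iff, h]
    exact (X.basicOpen (1 - e.1)).isOpen
  refine Nat.card_eq_of_bijective (fun e => (⟨(X.basicOpen e.1 : Set X), hcl e⟩ : Clopens X))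
    ⟨fun e e' h => Subtype.ext ?_, fun V => ?_⟩
  · refine TopCat.Presheaf.section_ext X.sheaf ⊤ e.1 e'.1 fun x hx => ?_
    have hiff : x ∈ X.basicOpen e.1 ↔ x ∈ X.basicOpen e'.1 :=
      Set.ext_iff.1 (congrArg (fun W : Clopens X => (W : Set X)) h) x
    change X.presheaf.germ ⊤ x (Opens.mem_top x) e.1 = X.presheaf.germ ⊤ x (Opens.mem_top x) e'.1
    by_cases hx' : x ∈ X.basicOpen e.1
    · rw [(germ_idem e.2 x).1 hx', (germ_idem e'.2 x).1 (hiff.1 hx')]
    · rw [(germ_idem e.2 x).2 hx', (germ_idem e'.2 x).2 (fun h' => hx' (hiff.2 h'))]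
  · let W : ULift.{u} Bool → X.Opens := fun b => match b with
      | ⟨true⟩ => ⟨V, V.isClopen.isOpen⟩
      | ⟨false⟩ => ⟨(V : Set X)ᶜ, V.isClopen.compl.isOpen⟩
    let sf : ∀ b, Γ(X, W b) := fun b => match b with
      | ⟨true⟩ => 1
      | ⟨false⟩ => 0
    have hcomp : TopCat.Presheaf.IsCompatible X.sheaf.presheaf W sf := by
      have hbot : ∀ b b', b ≠ b' → ∀ s t : Γ(X, W b ⊓ W b'), s = t := fun b b' hbb s t => by
        refine TopCat.Presheaf.section_ext X.sheaf _ s t fun x hx => ?_
        rcases b with ⟨_ | _⟩ <;> rcases b' with ⟨_ | _⟩ <;>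
          first | exact absurd rfl hbb | exact absurd hx.1 (fun h => hx.2 h) | exact absurd hx.2 (fun h => hx.1 h)
      intro b b'
      by_cases h : b = b'
      · subst h; rfl
      · exact hbot b b' h _ _
    obtain ⟨e, he, -⟩ := TopCat.Sheaf.existsUnique_gluing' (F := X.sheaf) W ⊤ (fun b => homOfLE le_top)
      (fun x _ => by
        by_cases hx : x ∈ (V : Set X)
        · exact Opens.mem_iSup.2 ⟨⟨true⟩, hx⟩
        · exact Opens.mem_iSup.2 ⟨⟨false⟩, hx⟩) sf hcomp
    have hg : ∀ x, (x ∈ (V : Set X) → X.presheaf.germ ⊤ x (Opens.mem_top x) e = 1) ∧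
        (x ∉ (V : Set X) → X.presheaf.germ ⊤ x (Opens.mem_top x) e = 0) := fun x => by
      constructor
      · intro hx
        rw [← TopCat.Presheaf.germ_res_apply X.presheaf (homOfLE (le_top : W ⟨true⟩ ≤ ⊤)) x hx e]
        exact (congrArg _ (he ⟨true⟩)).trans (map_one _)
      · intro hx
        rw [← TopCat.Presheaf.germ_res_apply X.presheaf (homOfLE (le_top : W ⟨false⟩ ≤ ⊤)) x hx e]
        exact (congrArg _ (he ⟨false⟩)).trans (map_zero _)
    have hidem : IsIdempotentElem e := by
      refine TopCat.Presheaf.section_ext X.sheaf ⊤ (e * e) e fun x hx => ?_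
      change X.presheaf.germ ⊤ x (Opens.mem_top x) (e * e) = X.presheaf.germ ⊤ x (Opens.mem_top x) e
      refine (map_mul (X.presheaf.germ ⊤ x (Opens.mem_top x)).hom e e).trans ?_
      by_cases hx' : x ∈ (V : Set X)
      · exact (congrArg₂ (· * ·) ((hg x).1 hx') ((hg x).1 hx')).trans ((one_mul _).trans ((hg x).1 hx').symm)
      · exact (congrArg₂ (· * ·) ((hg x).2 hx') ((hg x).2 hx')).trans ((zero_mul _).trans ((hg x).2 hx').symm)
    refine ⟨⟨e, hidem⟩, Clopens.ext (Set.ext fun x => ?_)⟩
    change x ∈ X.basicOpen e ↔ x ∈ (V : Set X)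
    rw [X.mem_basicOpen e x (Opens.mem_top x)]
    by_cases hx' : x ∈ (V : Set X)
    · rw [(hg x).1 hx']; simp [hx']
    · rw [(hg x).2 hx']; simp [hx']

/-- `dim H⁰(X, O_X)` is the number of connected components. -/
theorem finrank_h0_eq_natCard (k : Type u) [Field k] [IsAlgClosed k] (X : Scheme.{u})
    [X.Over (Spec (CommRingCat.of k))] [IsProper (X ↘ Spec (CommRingCat.of k))] [IsReduced X] :
    Module.finrank k (Coh.HH X (Coh.structureModule X) 0) = Nat.card (_root_.ConnectedComponents X) := by
  haveI := CurvLib.isNoetherian k (X := X)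
  letI alg : Algebra k Γ(X, ⊤) := (Coh.toGlobal (X ↘ Spec (CommRingCat.of k))).toAlgebra
  letI := CurvLib.secModule (k := k) (Coh.structureModule X)
  haveI := CurvLib.finite_HH (k := k) (DevissLib.isCoh_structureModule X) 0
  let e : Coh.HH X (Coh.structureModule X) 0 ≃ₗ[k] Γ(X, ⊤) :=
    (CurvLib.hhZeroEquiv (k := k) (Coh.structureModule X)).trans
      { toFun := fun s => (show Γ(X, ⊤) from s)
        invFun := fun s => s
        map_add' := fun _ _ => rfl
        map_smul' := fun _ _ => rfl }
  haveI : Module.Finite k Γ(X, ⊤) := Module.Finite.equiv e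
  rw [e.finrank_eq, finrank_eq_card_spec]
  refine Nat.pow_right_injective (le_refl 2) ?_
  change 2 ^ Nat.card (PrimeSpectrum Γ(X, ⊤)) = 2 ^ Nat.card (_root_.ConnectedComponents X)
  rw [← natCard_clopens X, ← natCard_idempotents X]
  haveI : IsArtinianRing Γ(X, ⊤) := IsArtinianRing.of_finite k Γ(X, ⊤)
  haveI : T1Space (PrimeSpectrum Γ(X, ⊤)) := inferInstance
  rw [Nat.card_congr PrimeSpectrum.isIdempotentElemEquivClopens.toEquiv, natCard_clopens]
  refine congrArg (2 ^ ·) (Nat.card_congr (Equiv.ofBijective ((↑) : PrimeSpectrum Γ(X, ⊤) → _)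
    ⟨fun a b h => ?_, _root_.ConnectedComponents.surjective_coe⟩))
  have := _root_.ConnectedComponents.coe_eq_coe'.1 h
  rw [connectedComponent_eq_singleton] at this
  exact this

end NormGenusLib
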