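import Groth.Agent.NodeFrobLib.Stalk
import Groth.Agent.NorLocLib.Normalization
import Groth.Agent.MiscFlat6.NormalLowDim
import Groth.Prelude.Def_Curv2

/-!
# The `δ`-invariant of a node is one
-/

set_option autoImplicit false
set_option linter.style.haveILetI false
universe u

open CategoryTheory AlgebraicGeometry IsLocalRing
open scoped nonZeroDivisors
open NodeFrobLib (br)

noncomputable section

namespace NormGenusLib

theorem isField_of_idem {R : Type u} [CommRing R] [IsArtinianRing R] [_root_.IsReduced R] [Nontrivial R]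
    (h : ∀ e : R, IsIdempotentElem e → e = 0 ∨ e = 1) : IsField R := by
  refine ⟨exists_pair_ne R, mul_comm, fun {r} hr => ?_⟩
  obtain ⟨n, s, hs⟩ := IsArtinian.exists_pow_succ_smul_dvd r (1 : R)
  simp only [smul_eq_mul, mul_one] at hs
  have hstep : ∀ j, r ^ n = r ^ (n + j) * s ^ j := by
    intro j
    induction j with
    | zero => simp
    | succ j ih =>
      rw [show r ^ (n + (j + 1)) * s ^ (j + 1) = r ^ j * (r ^ (n + 1) * s) * s ^ j by ring,
        show r ^ (n + 1) * s = r ^ n from hs]
      exact ih.trans (by ring)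
  have he : IsIdempotentElem ((r * s) ^ n) := by
    change (r * s) ^ n * (r * s) ^ n = (r * s) ^ n
    rw [mul_pow]
    conv_rhs => rw [hstep n]
    ring
  rcases h _ he with h0 | h1
  · refine absurd (_root_.IsReduced.eq_zero r ⟨n, ?_⟩) hr
    rw [hstep n, pow_add, mul_assoc, ← mul_pow, h0, mul_zero]
  · rcases Nat.eq_zero_or_pos n with hn | hn
    · subst hn; exact ⟨s, by simpa using hs⟩
    · exact IsUnit.exists_right_inv ((isUnit_pow_iff hn.ne').mp (IsUnit.of_mul_eq_one (s ^ n)
        (by rw [← mul_pow]; exact h1)))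

/-- A reduced Noetherian local ring integrally closed in its fractions is a normal domain. -/
theorem domain_of_intClosed (A : Type u) [CommRing A] [IsLocalRing A] [IsNoetherianRing A] [_root_.IsReduced A]
    (h : ∀ q : FractionRing A, IsIntegral A q → q ∈ Set.range (algebraMap A (FractionRing A))) :
    IsDomain A ∧ IsIntegrallyClosed A := by
  let K := FractionRing A
  haveI : IsArtinianRing K := NorLocLib.isArtinianRing_fractionRing A
  haveI : _root_.IsReduced K := inferInstance
  haveI : Nontrivial K := (IsFractionRing.injective A K).nontrivial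
  have hK : IsField K := isField_of_idem fun e he => by
    obtain ⟨ε, rfl⟩ := h e ⟨Polynomial.X ^ 2 - Polynomial.X, Polynomial.monic_X_pow_sub (by simp), by
      simp [pow_two, he.eq]⟩
    have hε : IsIdempotentElem ε := IsFractionRing.injective A K (by rw [map_mul]; exact he)
    rcases IsLocalRing.isUnit_or_isUnit_of_add_one (add_sub_cancel ε 1) with hu | hu
    · exact Or.inr (by rw [hu.mul_eq_left.1 hε.eq, map_one])
    · refine Or.inl ?_
      rw [show ε = 0 from hu.mul_right_eq_zero.1
        (by rw [sub_mul, one_mul, hε.eq, sub_self] : (1 - ε) * ε = 0), map_zero]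
  letI := hK.toField
  haveI : IsDomain A := (IsFractionRing.injective A K).isDomain
  exact ⟨inferInstance, (isIntegrallyClosed_iff K).2 fun {q} hq => h q hq⟩

theorem mem_range_of_integral {A : Type u} [CommRing A] {D : Type u} [CommRing D] [IsDomain D] [IsIntegrallyClosed D]
    (f : A →+* D) (hf : ∀ s ∈ A⁰, f s ≠ 0) :
    ∃ F : ↥(integralClosure A (FractionRing A)) →+* D, ∀ (q : ↥(integralClosure A (FractionRing A))) (a s : A),
      (q : FractionRing A) * algebraMap A _ s = algebraMap A _ a → F q * f s = f a := by
  let L := FractionRing D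
  let g : A →+* L := (algebraMap D L).comp f
  have hg : ∀ s : A⁰, IsUnit (g s) := fun s =>
    ((map_ne_zero_iff _ (IsFractionRing.injective D L)).2 (hf s s.2)).isUnit
  let ψ : FractionRing A →+* L := IsLocalization.lift hg
  have hψ : ∀ a, ψ (algebraMap A _ a) = g a := fun a => IsLocalization.lift_eq hg a
  have hmem : ∀ q : ↥(integralClosure A (FractionRing A)), ψ q ∈ (algebraMap D L).range := fun q => by
    obtain ⟨P, hP, hPq⟩ := q.2
    refine IsIntegrallyClosed.isIntegral_iff.1 ⟨P.map f, hP.map f, ?_⟩
    rw [Polynomial.eval₂_map]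
    have h := congrArg ψ hPq
    rw [map_zero, Polynomial.hom_eval₂] at h
    rwa [show ψ.comp (algebraMap A (FractionRing A)) = g from RingHom.ext hψ] at h
  let E : D ≃+* (algebraMap D L).range := RingEquiv.ofBijective (algebraMap D L).rangeRestrict
    ⟨fun a b h => IsFractionRing.injective D L (congrArg Subtype.val h), (algebraMap D L).rangeRestrict_surjective⟩
  refine ⟨E.symm.toRingHom.comp ((ψ.comp (integralClosure A (FractionRing A)).val.toRingHom).codRestrict _ hmem),
    fun q a s h => IsFractionRing.injective D L ?_⟩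
  rw [map_mul]
  have hE : ∀ z, algebraMap D L (E.symm z) = z := fun z => congrArg Subtype.val (E.apply_symm_apply z)
  simp only [RingHom.comp_apply, RingEquiv.toRingHom_eq_coe, RingEquiv.coe_toRingHom, hE]
  change ψ (q : FractionRing A) * g s = g a
  rw [← hψ, ← hψ, ← map_mul, h]

/-- The `δ`-invariant of a ring with a map to an ordinary double point. -/
theorem deltaInv_le_one {K : Type u} [Field K] (A : Type u) [CommRing A] (ι : A →+* NodalLib.R K)
    (hdvd : ∀ a s, ι s ∣ ι a → s ∣ a) (hreg : ∀ s ∈ A⁰, ι s ∈ (NodalLib.R K)⁰)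
    (hκ : Function.Surjective fun a => PowerSeries.constantCoeff (br 0 (ι a))) :
    Curv2.deltaInv A ≤ 1 := by
  let B := ↥(integralClosure A (FractionRing A))
  choose F hF using fun i => mem_range_of_integral ((br i).comp ι)
    (fun s hs => NodeFrobLib.br_ne_zero (hreg s hs) i)
  let κ : A →+* K := (PowerSeries.constantCoeff.comp (br 0)).comp ι
  letI : Module A K := Module.compHom K κ
  have hFa : ∀ i a, F i (algebraMap A B a) = br i (ι a) := fun i a => by
    simpa using hF i (algebraMap A B a) a 1 (by rw [map_one, mul_one]; rfl)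
  let d : B →ₗ[A] K :=
    { toFun := fun q => PowerSeries.constantCoeff (F 0 q) - PowerSeries.constantCoeff (F 1 q)
      map_add' := fun q q' => by simp only [map_add]; ring
      map_smul' := fun a q => by
        rw [RingHom.id_apply, Algebra.smul_def, map_mul, map_mul, map_mul, map_mul, hFa, hFa]
        change _ = κ a * _
        rw [← NodeFrobLib.const_br (ι a)]
        simp only [κ, RingHom.comp_apply]
        ring }
  have hker : LinearMap.ker d = LinearMap.range (Algebra.linearMap A B) := by
    refine le_antisymm (fun q hq => ?_) ?_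
    · obtain ⟨⟨a, s⟩, has⟩ := IsLocalization.surj A⁰ (q : FractionRing A)
      obtain ⟨r, hr⟩ := NodeFrobLib.exists_of_const (fun i => F i q) (sub_eq_zero.1 (LinearMap.mem_ker.1 hq))
      obtain ⟨c, hc⟩ := hdvd a s ⟨r, NodeFrobLib.br_ext fun i => by
        rw [map_mul, hr]; exact ((mul_comm _ _).trans (hF i q a s has)).symm⟩
      refine ⟨c, Subtype.ext ((IsLocalization.map_units (FractionRing A) s).mul_right_cancel ?_)⟩
      rw [has, hc]
      change algebraMap A (FractionRing A) c * _ = _
      rw [map_mul, mul_comm]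
    · rintro _ ⟨a, rfl⟩
      rw [LinearMap.mem_ker]
      change PowerSeries.constantCoeff (F 0 (algebraMap A B a)) - PowerSeries.constantCoeff (F 1 (algebraMap A B a)) = 0
      rw [hFa, hFa, NodeFrobLib.const_br, sub_self]
  haveI : IsSimpleModule A K := by
    refine isSimpleModule_iff_toSpanSingleton_surjective.2 ⟨inferInstance, fun x hx0 y => ?_⟩
    obtain ⟨a, ha⟩ := hκ (y / x)
    exact ⟨a, (congrArg (· * x) ha).trans (div_mul_cancel₀ y hx0)⟩
  unfold Curv2.deltaInv
  rw [← hker, d.quotKerEquivRange.length_eq]
  exact (Module.length_le_of_injective (LinearMap.range d).subtype Subtype.val_injective).trans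
    (Module.length_eq_one A K).le

/-- **A node has `δ`-invariant one.** -/
theorem deltaInv_node {k : Type u} [Field k] [IsAlgClosed k] {X : Scheme.{u}} [X.Over (Spec (CommRingCat.of k))]
    [LocallyOfFiniteType (X ↘ Spec (CommRingCat.of k))] (hdim : topologicalKrullDim X ≤ 1)
    [AlgebraicGeometry.IsReduced X] {x : X} (hx : Curv2.IsNode k X x) :
    Curv2.deltaInv (X.presheaf.stalk x) = 1 := by
  obtain ⟨ι, h1, h2, h3⟩ := NodeFrobLib.exists_node_hom hx
  refine le_antisymm (deltaInv_le_one _ ι h1 h2 h3) (Order.one_le_iff_ne_zero.2 fun h0 => ?_)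
  haveI : IsLocallyNoetherian X := LocallyOfFiniteType.isLocallyNoetherian (X ↘ Spec (CommRingCat.of k))
  rw [Curv2.deltaInv, Module.length_eq_zero_iff, Submodule.Quotient.subsingleton_iff, LinearMap.range_eq_top] at h0
  haveI : _root_.IsReduced (X.presheaf.stalk x) := inferInstance
  obtain ⟨hD, hI⟩ := domain_of_intClosed (X.presheaf.stalk x) fun q hq => by
    obtain ⟨a, ha⟩ := h0 ⟨q, hq⟩
    exact ⟨a, congrArg Subtype.val ha⟩
  haveI := hD
  haveI := hI
  exact NodalLib.not_regular_node k hx (MiscFlat6.isRegularLocalRing_of_normal_dim_le_one _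
    ((MiscFlat6.ringKrullDim_stalk_le X x).trans hdim))

end NormGenusLib
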