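import Groth.Agent.NormGenusLib.Stalk
import Groth.Agent.NormGenusLib.Node
import Groth.Agent.NormGenusLib.Components
import Groth.Agent.GeomIrrLib.Basic
import Groth.Agent.NodalLib.Geom
import Groth.Agent.KleimanLib.GenSmooth
import Groth.Agent.FibDimLib.Pure
import Groth.Agent.NormalLib.Regular

/-!
# Euler characteristic and genus of the normalisation of a curve
-/

set_option autoImplicit false
set_option linter.style.haveILetI false
set_option maxHeartbeats 1000000

universe u

open CategoryTheory CategoryTheory.Limits AlgebraicGeometry TopologicalSpace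
open scoped Classical
attribute [local instance] Curv2.resAlgebra

noncomputable section

namespace NormGenusLib

/-- Dimension over the field from the length over a local algebra. -/
theorem finrank_eq_mul_length {k : Type u} [Field k] {A : Type u} [CommRing A] [IsLocalRing A] [Algebra k A]
    (Q : Type u) [AddCommGroup Q] [Module A Q] [Module k Q] [IsScalarTower k A Q] [FiniteDimensional k Q] :
    Module.finrank k Q = Module.finrank k (IsLocalRing.ResidueField A) * (Module.length A Q).toNat ∧
      Module.length A Q ≠ ⊤ := by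
  classical
  induction hd : Module.finrank k Q using Nat.strong_induction_on generalizing Q with
  | _ d ih =>
    subst hd
    rcases subsingleton_or_nontrivial Q with h | h
    · simp [Module.length_eq_zero, Module.finrank_zero_of_subsingleton]
    have : IsArtinian A Q := isArtinian_of_tower k (inferInstance : IsArtinian k Q)
    obtain ⟨L, hL, -⟩ := (eq_bot_or_exists_atom_le (⊤ : Submodule A Q)).resolve_left top_ne_bot
    have hs : IsSimpleModule A L := isSimpleModule_iff_isAtom.2 hL
    obtain ⟨I, hI, ⟨e⟩⟩ := isSimpleModule_iff_quot_maximal.1 hs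
    obtain rfl := IsLocalRing.eq_maximalIdeal hI
    have h1 : Module.finrank k L = Module.finrank k (IsLocalRing.ResidueField A) :=
      (e.restrictScalars k).finrank_eq
    haveI : FiniteDimensional k L :=
      FiniteDimensional.of_injective (L.subtype.restrictScalars k) L.injective_subtype
    have hL0 : Module.finrank k L ≠ 0 := by
      haveI := hs
      haveI : Nontrivial L := IsSimpleModule.nontrivial A L
      exact Module.finrank_pos.ne'
    have hsum : Module.finrank k L + Module.finrank k (Q ⧸ L) = Module.finrank k Q := by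
      rw [add_comm, ← (Submodule.Quotient.restrictScalarsEquiv k L).finrank_eq,
        show Module.finrank k L = Module.finrank k (L.restrictScalars k) from rfl,
        Submodule.finrank_quotient_add_finrank]
    haveI : FiniteDimensional k (Q ⧸ L) := Module.Finite.equiv (Submodule.Quotient.restrictScalarsEquiv k L)
    obtain ⟨h2, h3⟩ := ih _ (by omega) (Q ⧸ L) rfl
    have hlen : Module.length A Q = 1 + Module.length A (Q ⧸ L) := by
      rw [Module.length_eq_add_of_exact L.subtype L.mkQ L.injective_subtype L.mkQ_surjective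
        (LinearMap.exact_subtype_mkQ L), Module.length_eq_one A L]
    refine ⟨?_, by rw [hlen]; exact WithTop.add_ne_top.2 ⟨ENat.one_ne_top, h3⟩⟩
    rw [hlen, ← hsum, h1, h2, ENat.toNat_add ENat.one_ne_top h3, ENat.toNat_one]
    ring

variable {k : Type u} [Field k]

/-- **`χ(O_{C'}) = χ(O_C) + Σ [k(x):k] δ_x`.** -/
theorem euler_normalization (C : Scheme.{u}) [C.Over (Spec (CommRingCat.of k))]
    [IsProper (C ↘ Spec (CommRingCat.of k))] [IsReduced C] (hdim : topologicalKrullDim C ≤ 1)
    (C' : Scheme.{u}) [C'.Over (Spec (CommRingCat.of k))] (π : C' ⟶ C) [IsFinite π]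
    (hπ : π ≫ (C ↘ Spec (CommRingCat.of k)) = C' ↘ Spec (CommRingCat.of k)) (hC' : Pi1.IsNormalScheme C')
    (U : C.Opens) (hU : Dense (U : Set C)) (hU' : Dense ((π ⁻¹ᵁ U : C'.Opens) : Set C')) (hπU : IsIso (π ∣_ U)) :
    Curv2.euler k C' (Coh.structureModule C') =
      Curv2.euler k C (Coh.structureModule C) +
        ∑ᶠ x : C, (if IsClosed ({x} : Set C) then
          ((Module.finrank k (C.residueField x) : ℤ) * ((Curv2.deltaInv (C.presheaf.stalk x)).toNat : ℤ)) else 0) := by
  classical
  haveI := CurvLib.isNoetherian k (X := C)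
  haveI := hπU
  haveI : IsReduced C' := by
    haveI : ∀ x : C', _root_.IsReduced (C'.presheaf.stalk x) := fun x => by
      haveI := (hC' x).1
      infer_instance
    exact isReduced_of_isReduced_stalk _
  haveI : Coh.IsQCoh (Coh.structureModule C') := QCohLib.isQCoh_unit
  haveI : IsClosedImmersion (π ∣_ U) := inferInstance
  obtain ⟨hP, hQ, hQ0, -⟩ := GenusPushLib.unit_data (k := k) hdim π U hU
  let φ : Coh.structureModule C ⟶ P π := ClSub.unitToPush π
  haveI : Mono φ := GenusPushLib.mono_unit π U hU
  let S : ShortComplex C.Modules := ShortComplex.mk φ (cokernel.π φ) (cokernel.condition φ)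
  have hS : S.ShortExact :=
    { exact := ShortComplex.exact_of_g_is_cokernel _ (cokernelIsCokernel φ)
      mono_f := inferInstanceAs (Mono φ)
      epi_g := inferInstanceAs (Epi (cokernel.π φ)) }
  let Q := cokernel φ
  obtain ⟨hT, hTc⟩ := CurvLib.finite_support_data k hQ hQ0
  haveI := CurvLib.finite_HH (k := k) hQ 0
  have hfin : ∀ x : C, letI := CurvLib.stalkModule (k := k) Q x
      Module.Finite k ((DevissLib.St x).obj Q) := fun x => CurvLib.finite_stalk (k := k) Q hT hTc subset_rfl x
  have hlen : ∀ x, Module.length (C.presheaf.stalk x) (Q.presheaf.stalk x) = Curv2.deltaInv (C.presheaf.stalk x) :=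
    fun x => length_eq_deltaInv π U hU hU' hπU hC' x
  have hstalk : ∀ x, CurvLib.stalkDim k Q x =
      Module.finrank k (C.residueField x) * (Curv2.deltaInv (C.presheaf.stalk x)).toNat := fun x => by
    letI := Curv2.stalkAlgebra k C x
    letI := CurvLib.stalkModule (k := k) Q x
    haveI : IsScalarTower k (C.presheaf.stalk x) ((DevissLib.St x).obj Q) :=
      IsScalarTower.of_algebraMap_smul fun _ _ => rfl
    haveI := hfin x
    have h := (finrank_eq_mul_length (k := k) (A := C.presheaf.stalk x) ((DevissLib.St x).obj Q)).1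
    rw [show Module.length (C.presheaf.stalk x) ((DevissLib.St x).obj Q) = Curv2.deltaInv (C.presheaf.stalk x) from
      hlen x] at h
    exact h
  have hsum : ∑ᶠ x : C, (if IsClosed ({x} : Set C) then
      ((Module.finrank k (C.residueField x) : ℤ) * ((Curv2.deltaInv (C.presheaf.stalk x)).toNat : ℤ)) else 0) =
      ∑ x ∈ hT.toFinset, (CurvLib.stalkDim k Q x : ℤ) := by
    rw [finsum_eq_sum_of_support_subset _ (s := hT.toFinset) (fun x hx => ?_)]
    · refine Finset.sum_congr rfl fun x hx => ?_
      rw [if_pos (hTc x (hT.mem_toFinset.1 hx)), hstalk x]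
      push_cast
      rfl
    · rw [Set.Finite.coe_toFinset]
      by_contra hn
      refine hx ?_
      have : Subsingleton (Q.presheaf.stalk x) := not_not.mp hn
      simp only [← hlen x, Module.length_eq_zero, ENat.toNat_zero, Nat.cast_zero, mul_zero, ite_self]
  rw [(PushLinLib.euler_push k π hπ (Coh.structureModule C')).2,
    CurvLib.euler_add_of_isCoh (k := k) (S := S) hS (DevissLib.isCoh_structureModule C) hP hQ, hsum,
    CurvLib.euler_eq_sum_stalks (k := k) Q hT (QCohLib.isClosed_support Q hQ.2) hQ0 subset_rfl hfin]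
  push_cast
  rfl

theorem resMap_bijective [IsAlgClosed k] {X : Scheme.{u}}
    [X.Over (Spec (CommRingCat.of k))] [LocallyOfFiniteType (X ↘ Spec (CommRingCat.of k))]
    {x : X} (hx : IsClosed ({x} : Set X)) : Function.Bijective (Curv2.resMap k X x) := by
  have h : CommRingCat.ofHom (Curv2.resMap k X x) =
      (residueFieldIsoBase (X ↘ Spec (CommRingCat.of k)) x hx).inv := by
    rw [← Spec.map_inj]
    exact (GeomIrrLib.specMap_resMap x).trans (SpecMap_residueFieldIsoBase_inv _ x hx).symm
  have h2 := ConcreteCategory.bijective_of_isIso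
    (residueFieldIsoBase (X ↘ Spec (CommRingCat.of k)) x hx).inv
  rw [← h] at h2
  exact h2

/-- **Genus of a nodal curve and of its normalisation.** -/
theorem genus_nodal [IsAlgClosed k] (C : Scheme.{u}) [C.Over (Spec (CommRingCat.of k))]
    [IsProper (C ↘ Spec (CommRingCat.of k))]
    (hdim : ∀ Z ∈ irreducibleComponents (C : Type u), topologicalKrullDim Z = 1) (hC : Curv2.AtWorstNodal k C)
    (C' : Scheme.{u}) [C'.Over (Spec (CommRingCat.of k))] (π : C' ⟶ C) [IsFinite π]
    (hπ : π ≫ (C ↘ Spec (CommRingCat.of k)) = C' ↘ Spec (CommRingCat.of k)) (hC' : Pi1.IsNormalScheme C')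
    (U : C.Opens) (hU : Dense (U : Set C)) (hU' : Dense ((π ⁻¹ᵁ U : C'.Opens) : Set C')) (hπU : IsIso (π ∣_ U)) :
    (Curv2.genus k C : ℤ) + Nat.card (_root_.ConnectedComponents C') =
      (Curv2.genus k C' : ℤ) + Nat.card {x : C // Curv2.IsNode k C x} + Nat.card (_root_.ConnectedComponents C) := by
  classical
  haveI := CurvLib.isNoetherian k (X := C)
  haveI : IsReduced C := by
    haveI : ∀ x : C, _root_.IsReduced (C.presheaf.stalk x) := fun x => (NodalLib.stalk_facts k hC x).1
    exact isReduced_of_isReduced_stalk _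
  haveI : IsReduced C' := by
    haveI : ∀ x : C', _root_.IsReduced (C'.presheaf.stalk x) := fun x => by
      haveI := (hC' x).1
      infer_instance
    exact isReduced_of_isReduced_stalk _
  haveI : IsProper (C' ↘ Spec (CommRingCat.of k)) := by rw [← hπ]; infer_instance
  haveI : Coh.IsQCoh (Coh.structureModule C') := QCohLib.isQCoh_unit
  have hd1 : topologicalKrullDim C ≤ (1 : ℕ) :=
    FibDimLib.IsPureDim.topologicalKrullDim_le (A := C) (e := 1) hdim
  have he := euler_normalization C hd1 C' π hπ hC' U hU hU' hπU
  have hpt : ∀ x : C, (if IsClosed ({x} : Set C) then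
      ((Module.finrank k (C.residueField x) : ℤ) * ((Curv2.deltaInv (C.presheaf.stalk x)).toNat : ℤ)) else 0) =
      if Curv2.IsNode k C x then 1 else 0 := fun x => by
    by_cases hx : IsClosed ({x} : Set C)
    · have h1 : Module.finrank k (C.residueField x) = 1 := by
        rw [← (AlgEquiv.ofBijective (Algebra.ofId k (C.residueField x)) (resMap_bijective hx)).toLinearEquiv.finrank_eq,
          Module.finrank_self]
      by_cases hn : Curv2.IsNode k C x
      · rw [if_pos hx, if_pos hn, h1, deltaInv_node hd1 hn]
        rfl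
      · rw [if_pos hx, if_neg hn]
        obtain ⟨V, hxV, hs⟩ := (hC x hx).resolve_right hn
        haveI := KleimanLib.regular_of_smooth (V.ι ≫ (C ↘ Spec (CommRingCat.of k))) ⟨x, hxV⟩
        let A := V.toScheme.presheaf.stalk ⟨x, hxV⟩
        haveI : IsDomain A := CommAlgDim.isDomain_of_isRegularLocalRing A
        haveI : IsIntegrallyClosed A := NormalLib.isIntegrallyClosed_of_isRegularLocalRing A
        let e : A ≃+* C.presheaf.stalk x := (V.stalkIso ⟨x, hxV⟩).commRingCatIsoToRingEquiv
        haveI : IsDomain (C.presheaf.stalk x) := e.symm.toMulEquiv.isDomain _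
        haveI : IsIntegrallyClosed (C.presheaf.stalk x) := IsIntegrallyClosed.of_equiv e
        have h0 : Curv2.deltaInv (C.presheaf.stalk x) = 0 := by
          rw [Curv2.deltaInv, Module.length_eq_zero_iff, Submodule.Quotient.subsingleton_iff, LinearMap.range_eq_top]
          intro q
          obtain ⟨a, ha⟩ := IsIntegrallyClosed.isIntegral_iff.1 q.2
          exact ⟨a, Subtype.ext ha⟩
        rw [h0]
        simp
    · rw [if_neg hx, if_neg fun hn => hx hn.1]
  rw [finsum_congr hpt] at he
  have hfinT : {x : C | Curv2.IsNode k C x}.Finite := by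
    refine (FinPicLib.finite_of_closed (by exact_mod_cast hd1) U.isOpen.isClosed_compl fun y hy h =>
      hy (FinPicLib.mem_of_dense h U.isOpen hU)).subset fun x hn hxU => ?_
    haveI := hπU
    obtain ⟨z, hz⟩ : ∃ z, (π ∣_ U) z = ⟨x, hxU⟩ :=
      (ConcreteCategory.bijective_of_isIso (π ∣_ U).base).2 ⟨x, hxU⟩
    haveI hiso : IsIso (π.stalkMap z.1) :=
      (MorphismProperty.isomorphisms.iff _).1 (((MorphismProperty.isomorphisms CommRingCat).arrow_mk_iso_iff
        (morphismRestrictStalkMap π U z)).1 ((MorphismProperty.isomorphisms.iff _).2 inferInstance))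
    have hzx : π z.1 = x := (morphismRestrict_base_coe π U z).symm.trans (congrArg Subtype.val hz)
    subst hzx
    let e := (asIso (π.stalkMap z.1)).commRingCatIsoToRingEquiv
    obtain ⟨h1, h2⟩ := hC' z.1
    haveI := h1
    haveI := h2
    haveI : IsDomain (C.presheaf.stalk (π z.1)) := e.toMulEquiv.isDomain _
    haveI : IsIntegrallyClosed (C.presheaf.stalk (π z.1)) := IsIntegrallyClosed.of_equiv e.symm
    exact NodalLib.not_regular_node k hn (MiscFlat6.isRegularLocalRing_of_normal_dim_le_one _
      ((MiscFlat6.ringKrullDim_stalk_le C _).trans hd1))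
  have hcount : (∑ᶠ x : C, (if Curv2.IsNode k C x then (1 : ℤ) else 0)) =
      (Nat.card {x : C // Curv2.IsNode k C x} : ℤ) := by
    rw [finsum_eq_sum_of_support_subset _ (s := hfinT.toFinset) (fun x hx => by
      rw [Set.Finite.coe_toFinset]
      by_contra hn
      exact hx (if_neg hn))]
    rw [Finset.sum_congr rfl fun x hx => if_pos (show Curv2.IsNode k C x from hfinT.mem_toFinset.1 hx), Finset.sum_const, nsmul_eq_mul, mul_one]
    exact congrArg Nat.cast (Set.ncard_eq_toFinset_card _ hfinT).symm
  have hv : ∀ n, 2 ≤ n → Subsingleton (Coh.HH C (Coh.structureModule C) n) := fun n hn =>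
    CurvLib.subsingleton_HH_of_dim_le _ (d := 1) (by exact_mod_cast hd1) n (by omega)
  obtain ⟨hpn, hpe⟩ := PushLinLib.euler_push k π hπ (Coh.structureModule C')
  have hv' : ∀ n, 2 ≤ n → Subsingleton (Coh.HH C ((Coh.push π).obj (Coh.structureModule C')) n) := fun n hn =>
    CurvLib.subsingleton_HH_of_dim_le _ (d := 1) (by exact_mod_cast hd1) n (by omega)
  rw [hcount, hpe, CurvLib.euler_eq_sub hv, CurvLib.euler_eq_sub hv', ← hpn 0, ← hpn 1,
    finrank_h0_eq_natCard k C, finrank_h0_eq_natCard k C'] at he
  unfold Curv2.genus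
  linarith

end NormGenusLib
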