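import Groth.Agent.NodeFrobLib.Local
import Groth.Agent.GenusPushLib.Main
import Groth.Agent.NormDimOneLib.Cokernel
import Groth.Agent.DeltaBCLib.Basic
import Groth.Prelude.Def_Pi1

/-!
# The stalks of the direct image of the normalisation are the integral closures
-/

set_option autoImplicit false
set_option linter.style.haveILetI false
set_option maxHeartbeats 1000000

universe u

open CategoryTheory CategoryTheory.Limits AlgebraicGeometry TopologicalSpace Opposite
open scoped nonZeroDivisors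
open DevissLib (gm)
open NodeFrobLib (Reg res_res)

noncomputable section

namespace NormGenusLib

variable {C C' : Scheme.{u}} (π : C' ⟶ C) (U : C.Opens)
variable [IsReduced C] [IsReduced C'] [IsFinite π] [IsLocallyNoetherian C] [NoetherianSpace C]
  (hU : Dense (U : Set C)) (hU' : Dense ((π ⁻¹ᵁ U : C'.Opens) : Set C')) (hπU : IsIso (π ∣_ U))

/-- `π_* O'`. -/
abbrev P : C.Modules := (Scheme.Modules.pushforward π).obj (Coh.structureModule C')

/-- `ξ` is the fraction `q`. -/
def Rel (x : C) (ξ : (DevissLib.St x).obj (P π)) (q : FractionRing (C.presheaf.stalk x)) : Prop :=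
  ∃ (W : C.Opens) (hx : x ∈ W) (y : Γ(C', π ⁻¹ᵁ W)) (s a : Γ(C, W)),
    Reg s ∧ π.app W a = π.app W s * y ∧ gm (P π) x hx (show Γ(P π, W) from y) = ξ ∧
    q * algebraMap _ _ (C.presheaf.germ W x hx s) = algebraMap _ _ (C.presheaf.germ W x hx a)

omit [IsReduced C] [IsReduced C'] [IsFinite π] [IsLocallyNoetherian C] [NoetherianSpace C] in
theorem isUnit_germ {W : C.Opens} {x : C} (hx : x ∈ W) {s : Γ(C, W)} (hs : Reg s) :
    IsUnit (algebraMap (C.presheaf.stalk x) (FractionRing (C.presheaf.stalk x)) (C.presheaf.germ W x hx s)) :=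
  IsLocalization.map_units _ (⟨_, hs x hx⟩ : (C.presheaf.stalk x)⁰)

include hU hπU in
omit [IsFinite π] [IsLocallyNoetherian C] [NoetherianSpace C] in
theorem rel_unique {x : C} {ξ : (DevissLib.St x).obj (P π)} {q q' : FractionRing (C.presheaf.stalk x)}
    (h : Rel π x ξ q) (h' : Rel π x ξ q') : q = q' := by
  obtain ⟨W, hx, y, s, a, hs, ha, hy, hq⟩ := h
  obtain ⟨W', hx', y', s', a', hs', ha', hy', hq'⟩ := h'
  obtain ⟨V, hxV, i, i', hV⟩ := TopCat.Presheaf.germ_eq (P π).presheaf x hx hx' _ _ (hy.trans hy'.symm)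
  have hi := leOfHom i
  have hi' := leOfHom i'
  obtain rfl : i = homOfLE hi := Subsingleton.elim _ _
  obtain rfl : i' = homOfLE hi' := Subsingleton.elim _ _
  have hyV : C'.presheaf.map (homOfLE (π.preimage_mono hi)).op y =
      C'.presheaf.map (homOfLE (π.preimage_mono hi')).op y' := hV
  have e1 : C.presheaf.map (homOfLE hi).op a * C.presheaf.map (homOfLE hi').op s' =
      C.presheaf.map (homOfLE hi').op a' * C.presheaf.map (homOfLE hi).op s := by
    apply NodeFrobLib.app_injective π U hU hπU V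
    rw [map_mul, map_mul, QCohLib.app_res π hi a, QCohLib.app_res π hi' a', ha, ha',
      map_mul, map_mul, hyV, ← QCohLib.app_res π hi s, ← QCohLib.app_res π hi' s', mul_assoc, mul_assoc]
    ring
  have e2 := congrArg (C.presheaf.germ V x hxV) e1
  simp only [map_mul, TopCat.Presheaf.germ_res_apply] at e2
  have e3 := congrArg (algebraMap (C.presheaf.stalk x) (FractionRing (C.presheaf.stalk x))) e2
  rw [map_mul, map_mul, ← hq, ← hq'] at e3
  exact ((isUnit_germ hx hs).mul (isUnit_germ hx' hs')).mul_right_cancel (by linear_combination e3)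

include hU hπU in
theorem rel_exists (x : C) (ξ : (DevissLib.St x).obj (P π)) :
    ∃ q, Rel π x ξ q ∧ IsIntegral (C.presheaf.stalk x) q := by
  obtain ⟨W, hx, y, rfl⟩ := DevissLib.exists_gm_eq (P π) x ξ
  obtain ⟨V, hV, hxV, hle⟩ := exists_isAffineOpen_mem_and_subset hx
  have hle : V ≤ W := hle
  obtain ⟨s, a, Q, hs, ha, hQ, hQa⟩ := NodeFrobLib.exists_fraction π U hU hπU hV
    (C'.presheaf.map (homOfLE (π.preimage_mono hle)).op (show Γ(C', π ⁻¹ᵁ W) from y))
  obtain ⟨u, hu⟩ := isUnit_germ hxV hs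
  refine ⟨algebraMap _ _ (C.presheaf.germ V x hxV a) * ↑u⁻¹, ⟨V, hxV, _, s, a, hs, ha,
    DevissLib.gm_map (P π) hle x hxV y, by rw [← hu, mul_assoc, Units.inv_mul, mul_one]⟩, ?_⟩
  obtain ⟨R, hR, hRa⟩ := NodeFrobLib.frac_germ hxV hQ hQa
  refine ⟨R, hR, ?_⟩
  have h1 := congrArg (algebraMap (C.presheaf.stalk x) (FractionRing (C.presheaf.stalk x))) hRa
  rw [map_zero, ← Polynomial.eval₂_at_apply] at h1
  have h2 : algebraMap (C.presheaf.stalk x) (FractionRing (C.presheaf.stalk x)) (C.presheaf.germ V x hxV a) =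
      algebraMap _ _ (C.presheaf.germ V x hxV s) * (algebraMap _ _ (C.presheaf.germ V x hxV a) * ↑u⁻¹) := by
    rw [← hu, mul_left_comm, Units.mul_inv, mul_one]
  rw [h2, Polynomial.scaleRoots_eval₂_mul] at h1
  exact (((isUnit_germ hxV hs).pow R.natDegree).mul_right_eq_zero).1 h1

include hU hπU in
theorem exists_lam (x : C) :
    ∃ Λ : (DevissLib.St x).obj (P π) →ₗ[C.presheaf.stalk x] FractionRing (C.presheaf.stalk x),
      ∀ ξ q, Rel π x ξ q → Λ ξ = q := by
  choose f hf _ using rel_exists π U hU hπU x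
  have key : ∀ ξ q, Rel π x ξ q → f ξ = q := fun ξ q h => rel_unique π U hU hπU (hf ξ) h
  refine ⟨{ toFun := f, map_add' := fun ξ η => ?_, map_smul' := fun r ξ => ?_ }, key⟩
  · obtain ⟨W, hx, y, s, a, hs, ha, rfl, hq⟩ := hf ξ
    obtain ⟨W', hx', y', s', a', hs', ha', rfl, hq'⟩ := hf η
    have hxx : x ∈ W ⊓ W' := ⟨hx, hx'⟩
    refine key _ _ ⟨W ⊓ W', hxx,
      C'.presheaf.map (homOfLE (π.preimage_mono inf_le_left)).op y +
        C'.presheaf.map (homOfLE (π.preimage_mono inf_le_right)).op y',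
      C.presheaf.map (homOfLE inf_le_left).op s * C.presheaf.map (homOfLE inf_le_right).op s',
      C.presheaf.map (homOfLE inf_le_left).op a * C.presheaf.map (homOfLE inf_le_right).op s' +
        C.presheaf.map (homOfLE inf_le_right).op a' * C.presheaf.map (homOfLE inf_le_left).op s, ?_, ?_, ?_, ?_⟩
    · intro z hz
      rw [map_mul]
      exact mul_mem (hs.res inf_le_left z hz) (hs'.res inf_le_right z hz)
    · rw [map_add, map_mul, map_mul, map_mul, QCohLib.app_res π inf_le_left a, QCohLib.app_res π inf_le_right a',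
        ha, ha', map_mul, map_mul, ← QCohLib.app_res π inf_le_left s, ← QCohLib.app_res π inf_le_right s']
      ring
    · refine (map_add ((P π).presheaf.germ (W ⊓ W') x hxx).hom _ _).trans ?_
      exact congrArg₂ (· + ·) (DevissLib.gm_map (P π) inf_le_left x hxx _)
        (DevissLib.gm_map (P π) inf_le_right x hxx _)
    · simp only [map_add, map_mul, TopCat.Presheaf.germ_res_apply, ← hq, ← hq']
      ring
  · obtain ⟨W, hx, y, s, a, hs, ha, rfl, hq⟩ := hf ξ
    obtain ⟨W', hx', r', rfl⟩ := TopCat.Presheaf.germ_exist C.presheaf r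
    rw [RingHom.id_apply, Algebra.smul_def]
    have hxx : x ∈ W ⊓ W' := ⟨hx, hx'⟩
    refine key _ _ ⟨W ⊓ W', hxx,
      π.app (W ⊓ W') (C.presheaf.map (homOfLE inf_le_right).op r') *
        C'.presheaf.map (homOfLE (π.preimage_mono inf_le_left)).op y,
      C.presheaf.map (homOfLE inf_le_left).op s,
      C.presheaf.map (homOfLE inf_le_right).op r' * C.presheaf.map (homOfLE inf_le_left).op a,
      hs.res inf_le_left, ?_, ?_, ?_⟩
    · rw [map_mul, QCohLib.app_res π inf_le_left a, ha, map_mul, ← QCohLib.app_res π inf_le_left s]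
      ring
    · refine (DevissLib.gm_smul (P π) x hxx (C.presheaf.map (homOfLE inf_le_right).op r')
        ((P π).presheaf.map (homOfLE inf_le_left).op (show Γ(P π, W) from y))).trans ?_
      rw [DevissLib.gm_map, TopCat.Presheaf.germ_res_apply]
    · simp only [map_mul, TopCat.Presheaf.germ_res_apply, ← hq]
      ring

omit [IsReduced C] [IsReduced C'] [IsFinite π] [NoetherianSpace C] in
/-- A germ which is a non-zero-divisor is one nearby. -/
theorem exists_reg_nbhd {V : C.Opens} (hV : IsAffineOpen V) {x : C} (hx : x ∈ V) (s : Γ(C, V))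
    (hs : C.presheaf.germ V x hx s ∈ (C.presheaf.stalk x)⁰) :
    ∃ (g : Γ(C, V)), x ∈ C.basicOpen g ∧ Reg (C.presheaf.map (homOfLE (C.basicOpen_le g)).op s) := by
  classical
  haveI : IsNoetherianRing Γ(C, V) := IsLocallyNoetherian.component_noetherian ⟨V, hV⟩
  let p := (hV.primeIdealOf ⟨x, hx⟩).asIdeal
  letI : Algebra Γ(C, V) (C.presheaf.stalk x) := TopCat.Presheaf.algebra_section_stalk C.presheaf ⟨x, hx⟩
  haveI := hV.isLocalization_stalk ⟨x, hx⟩
  obtain ⟨T, hT⟩ := IsNoetherian.noetherian (LinearMap.ker (LinearMap.mulLeft Γ(C, V) s))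
  have hu : ∀ z : T, ∃ u : p.primeCompl, (u : Γ(C, V)) * z = 0 := fun z => by
    have hz : s * z.1 = 0 := LinearMap.mem_ker.1 (hT.le (Submodule.subset_span z.2))
    refine (IsLocalization.map_eq_zero_iff p.primeCompl (C.presheaf.stalk x) z.1).1
      (mem_nonZeroDivisors_iff_right.1 hs _ ?_)
    change algebraMap Γ(C, V) (C.presheaf.stalk x) z.1 * algebraMap Γ(C, V) (C.presheaf.stalk x) s = 0
    rw [← map_mul, mul_comm, hz, map_zero]
  choose u hu using hu
  let g : p.primeCompl := ∏ z : T, u z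
  have hg : ∀ z ∈ LinearMap.ker (LinearMap.mulLeft Γ(C, V) s), (g : Γ(C, V)) * z = 0 := fun z hz => by
    rw [← hT] at hz
    induction hz using Submodule.span_induction with
    | mem w hw =>
      obtain ⟨c, hc⟩ : (u ⟨w, hw⟩ : p.primeCompl) ∣ g := Finset.dvd_prod_of_mem u (Finset.mem_univ _)
      rw [hc, Submonoid.coe_mul, mul_right_comm]
      exact mul_eq_zero_of_left (hu ⟨w, hw⟩) _
    | zero => rw [mul_zero]
    | add w w' _ _ h h' => rw [mul_add, h, h', add_zero]
    | smul c w _ h => rw [smul_eq_mul, mul_left_comm, h, mul_zero]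
  refine ⟨g, (C.mem_basicOpen _ x hx).2 (IsLocalization.map_units (C.presheaf.stalk x) g), fun z hz => ?_⟩
  rw [TopCat.Presheaf.germ_res_apply, mem_nonZeroDivisors_iff_right]
  intro w hw
  have hzV : z ∈ V := C.basicOpen_le _ hz
  letI : Algebra Γ(C, V) (C.presheaf.stalk z) := TopCat.Presheaf.algebra_section_stalk C.presheaf ⟨z, hzV⟩
  haveI := hV.isLocalization_stalk ⟨z, hzV⟩
  let q := (hV.primeIdealOf ⟨z, hzV⟩).asIdeal
  obtain ⟨⟨b, c⟩, hb⟩ := IsLocalization.surj q.primeCompl w
  have h0 : algebraMap Γ(C, V) (C.presheaf.stalk z) (b * s) = 0 := by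
    rw [map_mul, ← hb, mul_right_comm]
    exact mul_eq_zero_of_left hw _
  obtain ⟨c', hc'⟩ := (IsLocalization.map_eq_zero_iff q.primeCompl (C.presheaf.stalk z) _).1 h0
  have hker : (c' : Γ(C, V)) * b ∈ LinearMap.ker (LinearMap.mulLeft Γ(C, V) s) :=
    LinearMap.mem_ker.2 (show s * ((c' : Γ(C, V)) * b) = 0 by rw [← hc']; ring)
  have h1 := congrArg (algebraMap Γ(C, V) (C.presheaf.stalk z)) (hg _ hker)
  rw [map_mul, map_mul, map_zero] at h1
  have hgu : IsUnit (algebraMap Γ(C, V) (C.presheaf.stalk z) (g : Γ(C, V))) := (C.mem_basicOpen _ z hzV).1 hz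
  have hc'u := IsLocalization.map_units (C.presheaf.stalk z) c'
  rw [hgu.mul_right_eq_zero, hc'u.mul_right_eq_zero, ← hb] at h1
  exact (IsLocalization.map_units (C.presheaf.stalk z) c).mul_left_eq_zero.1 h1

omit [IsReduced C] [IsReduced C'] [IsFinite π] [IsLocallyNoetherian C] [NoetherianSpace C] in
/-- Polynomials over a stalk lift to a neighbourhood. -/
theorem exists_lift (x : C) {V : C.Opens} (hx : x ∈ V) (Q : Polynomial (C.presheaf.stalk x)) :
    ∃ (W : C.Opens) (hxW : x ∈ W), W ≤ V ∧ Q ∈ Polynomial.lifts (C.presheaf.germ W x hxW).hom := by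
  induction Q using Polynomial.induction_on' with
  | monomial n r =>
    obtain ⟨W, hxW, r', rfl⟩ := TopCat.Presheaf.germ_exist C.presheaf r
    exact ⟨W ⊓ V, ⟨hxW, hx⟩, inf_le_right, Polynomial.monomial_mem_lifts n
      ⟨C.presheaf.map (homOfLE inf_le_left).op r', TopCat.Presheaf.germ_res_apply _ _ _ _ _⟩⟩
  | add Q R hQ hR =>
    obtain ⟨W, hxW, hWV, hQ⟩ := hQ
    obtain ⟨W', hxW', -, hR⟩ := hR
    refine ⟨W ⊓ W', ⟨hxW, hxW'⟩, inf_le_left.trans hWV, add_mem ?_ ?_⟩ <;>
      rw [Polynomial.lifts_iff_coeff_lifts] at * <;> intro n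
    · obtain ⟨r, hr⟩ := hQ n
      exact ⟨C.presheaf.map (homOfLE inf_le_left).op r,
        (TopCat.Presheaf.germ_res_apply _ _ _ _ _).trans hr⟩
    · obtain ⟨r, hr⟩ := hR n
      exact ⟨C.presheaf.map (homOfLE inf_le_right).op r,
        (TopCat.Presheaf.germ_res_apply _ _ _ _ _).trans hr⟩

include hU' hπU in
theorem rel_of_integral (hC' : Pi1.IsNormalScheme C') (x : C) (q : FractionRing (C.presheaf.stalk x))
    (hq : IsIntegral (C.presheaf.stalk x) q) : ∃ ξ, Rel π x ξ q := by
  obtain ⟨⟨a', s'⟩, has⟩ := IsLocalization.surj (C.presheaf.stalk x)⁰ q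
  obtain ⟨s', hs'⟩ := s'
  obtain ⟨Q, hQ, hQq⟩ := hq
  have hQa : (Q.scaleRoots s').eval a' = 0 := by
    apply IsFractionRing.injective (C.presheaf.stalk x) (FractionRing (C.presheaf.stalk x))
    rw [map_zero, ← Polynomial.eval₂_at_apply, ← has, mul_comm]
    exact Polynomial.scaleRoots_eval₂_eq_zero _ hQq
  obtain ⟨W₁, hxW₁, a₁, rfl⟩ := TopCat.Presheaf.germ_exist C.presheaf a'
  obtain ⟨W₂, hxW₂, s₂, rfl⟩ := TopCat.Presheaf.germ_exist C.presheaf s'
  obtain ⟨W₃, hxW₃, hW₃, hlift⟩ := exists_lift x (show x ∈ W₁ ⊓ W₂ from ⟨hxW₁, hxW₂⟩) Q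
  obtain ⟨Q₁, hQ₁, -, hQ₁m⟩ := Polynomial.lifts_and_natDegree_eq_and_monic hlift hQ
  let a₃ := C.presheaf.map (homOfLE (hW₃.trans inf_le_left)).op a₁
  let s₃ := C.presheaf.map (homOfLE (hW₃.trans inf_le_right)).op s₂
  have hev : C.presheaf.germ W₃ x hxW₃ ((Q₁.scaleRoots s₃).eval a₃) =
      C.presheaf.germ W₃ x hxW₃ 0 := by
    rw [map_zero]
    refine (Polynomial.eval₂_at_apply (C.presheaf.germ W₃ x hxW₃).hom a₃).symm.trans ?_
    rw [← Polynomial.eval_map, Polynomial.map_scaleRoots _ _ _ (by rw [hQ₁m.leadingCoeff, map_one]; exact one_ne_zero), hQ₁]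
    simpa [a₃, s₃, TopCat.Presheaf.germ_res_apply] using hQa
  obtain ⟨W₄, hxW₄, i, i', hW₄⟩ := TopCat.Presheaf.germ_eq C.presheaf x hxW₃ hxW₃ _ _ hev
  obtain ⟨V, hV, hxV, hle⟩ := exists_isAffineOpen_mem_and_subset hxW₄
  have hle : V ≤ W₄ := hle
  have hV₃ : V ≤ W₃ := hle.trans (leOfHom i)
  obtain ⟨g, hxg, hReg⟩ := exists_reg_nbhd hV hxV (C.presheaf.map (homOfLE hV₃).op s₃)
    (by simpa [s₃, TopCat.Presheaf.germ_res_apply] using hs')
  let D := C.basicOpen g
  have hD : IsAffineOpen D := hV.basicOpen g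
  have hD₃ : D ≤ W₃ := (C.basicOpen_le g).trans hV₃
  let a := C.presheaf.map (homOfLE hD₃).op a₃
  let s := C.presheaf.map (homOfLE hD₃).op s₃
  have hs : Reg s := by
    rw [show s = C.presheaf.map (homOfLE (C.basicOpen_le g)).op (C.presheaf.map (homOfLE hV₃).op s₃) from
      (res_res _ _ _).symm]
    exact hReg
  let r : Γ(C, W₃) →+* Γ(C, D) := (C.presheaf.map (homOfLE hD₃).op).hom
  have hP : ((Q₁.map r).scaleRoots s).eval a = 0 := by
    change ((Q₁.map r).scaleRoots (r s₃)).eval (r a₃) = 0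
    rcases subsingleton_or_nontrivial Γ(C, D) with h | h
    · exact Subsingleton.elim _ _
    rw [← Polynomial.map_scaleRoots _ _ _ (by rw [hQ₁m.leadingCoeff, map_one]; exact one_ne_zero),
      Polynomial.eval_map, Polynomial.eval₂_at_apply]
    have h4 := congrArg (C.presheaf.map (homOfLE ((C.basicOpen_le g).trans hle)).op) hW₄
    rw [map_zero, map_zero] at h4
    have hi := leOfHom i
    obtain rfl : i = homOfLE hi := Subsingleton.elim _ _
    rw [res_res] at h4
    exact h4
  let B := Γ(C', π ⁻¹ᵁ D)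
  have hB : IsAffineOpen (π ⁻¹ᵁ D) := hD.preimage π
  have hCP : ∀ (I : Ideal B) [I.IsMaximal], IsDomain (Localization.AtPrime I) ∧
      IsIntegrallyClosed (Localization.AtPrime I) := fun I hI => by
    let y : PrimeSpectrum B := ⟨I, hI.isPrime⟩
    have hy : hB.fromSpec y ∈ π ⁻¹ᵁ D := by
      have h : hB.fromSpec y ∈ Set.range hB.fromSpec := ⟨y, rfl⟩
      rwa [hB.range_fromSpec] at h
    letI : Algebra B (C'.presheaf.stalk (hB.fromSpec y)) :=
      TopCat.Presheaf.algebra_section_stalk C'.presheaf ⟨hB.fromSpec y, hy⟩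
    haveI : IsLocalization.AtPrime (C'.presheaf.stalk (hB.fromSpec y)) I := hB.isLocalization_stalk' y hy
    let e := (IsLocalization.algEquiv I.primeCompl (C'.presheaf.stalk (hB.fromSpec y))
      (Localization.AtPrime I)).toRingEquiv
    obtain ⟨h1, h2⟩ := hC' (hB.fromSpec y)
    haveI := h1
    haveI := h2
    haveI : IsDomain (Localization.AtPrime I) := e.symm.toMulEquiv.isDomain _
    exact ⟨inferInstance, IsIntegrallyClosed.of_equiv e⟩
  have ht : IsLeftRegular (π.app D s) := fun t t' (h : π.app D s * t = π.app D s * t') =>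
    sub_eq_zero.1 (NodeFrobLib.regular_app π U hU' hπU hs _ (by rw [mul_sub, h, sub_self]))
  obtain ⟨b, hb⟩ := DeltaBCLib.dvd_of_integral hCP (y := π.app D a) (t := π.app D s) ht
    ((hQ₁m.map r).map (π.app D).hom) (fun R _ _ z hz hzu => by
      let f : Γ(C, D) →+* R := (algebraMap B R).comp (π.app D).hom
      rw [Polynomial.aeval_def, Polynomial.eval₂_map]
      change Polynomial.eval₂ f z (Q₁.map r) = 0
      have h1 := congrArg f hP
      rw [map_zero, ← Polynomial.eval₂_at_apply] at h1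
      rw [show f a = f s * z from hz.symm.trans (mul_comm _ _), Polynomial.scaleRoots_eval₂_mul] at h1
      exact (hzu.pow _).mul_right_eq_zero.1 h1)
  refine ⟨_, D, hxg, b, s, a, hs, hb, rfl, ?_⟩
  simpa [a, s, a₃, s₃, TopCat.Presheaf.germ_res_apply] using has

include hU hU' hπU in
/-- The stalk of `π_* O'` is the integral closure of the stalk. -/
theorem exists_stalk_equiv (hC' : Pi1.IsNormalScheme C') (x : C) :
    ∃ Λ : (DevissLib.St x).obj (P π) →ₗ[C.presheaf.stalk x] FractionRing (C.presheaf.stalk x),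
      Function.Injective Λ ∧
      LinearMap.range Λ = Subalgebra.toSubmodule (integralClosure (C.presheaf.stalk x) (FractionRing (C.presheaf.stalk x))) ∧
      LinearMap.range (Λ ∘ₗ ((DevissLib.St x).map (ClSub.unitToPush π)).hom) =
        LinearMap.range (Algebra.linearMap (C.presheaf.stalk x) (FractionRing (C.presheaf.stalk x))) := by
  obtain ⟨Λ, hΛ⟩ := exists_lam π U hU hπU x
  refine ⟨Λ, ?_, le_antisymm ?_ ?_, le_antisymm ?_ ?_⟩
  · refine (injective_iff_map_eq_zero Λ).2 fun ξ h => ?_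
    obtain ⟨q, hR, -⟩ := rel_exists π U hU hπU x ξ
    rw [hΛ ξ q hR] at h
    subst h
    obtain ⟨W, hx, y, s, a, hs, ha, rfl, hq⟩ := hR
    rw [zero_mul, eq_comm, map_eq_zero_iff _ (IsFractionRing.injective _ _), ← map_zero (C.presheaf.germ W x hx).hom] at hq
    obtain ⟨V, hxV, i, i', hV⟩ := TopCat.Presheaf.germ_eq C.presheaf x hx hx _ _ hq
    have hi := leOfHom i
    obtain rfl : i = homOfLE hi := Subsingleton.elim _ _
    rw [map_zero] at hV
    have hy : C'.presheaf.map (homOfLE (π.preimage_mono hi)).op y = 0 := by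
      refine NodeFrobLib.regular_app π U hU' hπU (hs.res hi) _ ?_
      rw [QCohLib.app_res π hi s, ← map_mul, ← ha, ← QCohLib.app_res π hi a, hV, map_zero]
    rw [← DevissLib.gm_map (P π) hi x hxV]
    exact (congrArg (gm (P π) x hxV) hy).trans (DevissLib.gm_zero _ _ _)
  · rintro _ ⟨ξ, rfl⟩
    obtain ⟨q, hR, hint⟩ := rel_exists π U hU hπU x ξ
    rw [hΛ ξ q hR]
    exact hint
  · intro q hq
    obtain ⟨ξ, hR⟩ := rel_of_integral π U hU' hπU hC' x q hq
    exact ⟨ξ, hΛ ξ q hR⟩
  · rintro _ ⟨b, rfl⟩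
    obtain ⟨W, hx, c, rfl⟩ := DevissLib.exists_gm_eq _ x b
    refine ⟨C.presheaf.germ W x hx (show Γ(C, W) from c), (hΛ _ _ ?_).symm⟩
    refine ⟨W, hx, π.app W (show Γ(C, W) from c), 1, show Γ(C, W) from c, fun z hz => ?_, ?_, ?_, ?_⟩
    · rw [map_one]; exact one_mem _
    · rw [map_one, one_mul]
    · exact (DevissLib.gm_app (ClSub.unitToPush π) x hx c).symm
    · rw [map_one, map_one, mul_one]; rfl
  · rintro _ ⟨r, rfl⟩
    obtain ⟨W, hx, c, rfl⟩ := TopCat.Presheaf.germ_exist C.presheaf r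
    refine ⟨gm (Coh.structureModule C) x hx (show Γ(Coh.structureModule C, W) from c), hΛ _ _ ?_⟩
    refine ⟨W, hx, π.app W c, 1, c, fun z hz => ?_, ?_, ?_, ?_⟩
    · rw [map_one]; exact one_mem _
    · rw [map_one, one_mul]
    · exact (DevissLib.gm_app (ClSub.unitToPush π) x hx (show Γ(Coh.structureModule C, W) from c)).symm
    · rw [map_one, map_one, mul_one]; rfl

include hU hU' hπU in
/-- The cokernel of `O → π_* O'` has the `δ`-invariant as length. -/
theorem length_eq_deltaInv (hC' : Pi1.IsNormalScheme C') (x : C) :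
    Module.length (C.presheaf.stalk x) ((cokernel (ClSub.unitToPush π)).presheaf.stalk x) =
      Curv2.deltaInv (C.presheaf.stalk x) := by
  obtain ⟨Λ, hinj, hrange, hcomp⟩ := exists_stalk_equiv π U hU hU' hπU hC' x
  rw [NormDimOneLib.length_cokernel]
  let A := C.presheaf.stalk x
  let Kf := FractionRing A
  let e : (DevissLib.St x).obj (P π) ≃ₗ[A] ↥(integralClosure A Kf) :=
    (LinearEquiv.ofInjective Λ hinj).trans (LinearEquiv.ofEq _ _ hrange)
  refine (Submodule.Quotient.equiv _ _ e ?_).length_eq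
  have he : ∀ ξ, (Subalgebra.toSubmodule (integralClosure A Kf)).subtype (e ξ) = Λ ξ := fun ξ => rfl
  refine Submodule.map_injective_of_injective (f := (Subalgebra.toSubmodule (integralClosure A Kf)).subtype)
    Subtype.val_injective ?_
  change Submodule.map _ (Submodule.map e.toLinearMap _) = Submodule.map _ _
  rw [← Submodule.map_comp, ← LinearMap.range_comp, ← LinearMap.range_comp]
  exact hcomp

end NormGenusLib
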